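import Groth.Prelude.Def_GrMap
import Groth.Prelude.Def_AssocGrMod
import Mathlib.RingTheory.AdicCompletion.Basic

/-! Criteria for maps of associated graded rings and successive approximation. -/

set_option autoImplicit false

universe u v

noncomputable section

namespace Groth.Agent.AdicGr29

open AssocGr Polynomial

section Rings

variable {A : Type u} {B : Type v} [CommRing A] [CommRing B] {φ : A →+* B}
  {𝓕 : FiltBl.IdealFiltration A} {𝓖 : FiltBl.IdealFiltration B}

theorem map_injective_of (h : IsFiltHom φ 𝓕 𝓖)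
    (hh : ∀ n, ∀ a ∈ 𝓕.F n, φ a ∈ 𝓖.F (n + 1) → a ∈ 𝓕.F (n + 1)) :
    Function.Injective (AssocGr.map h) := by
  rw [injective_iff_map_eq_zero]
  intro x hx
  obtain ⟨f, rfl⟩ := mkG_surjective 𝓕 x
  rw [map_mkG, mkG_eq_zero_iff, mem_succIdeal_iff] at hx
  rw [mkG_eq_zero_iff, mem_succIdeal_iff]
  intro n
  have := hx n
  rw [coe_reesMap, Polynomial.coeff_map] at this
  exact hh n _ (f.2 n) this

theorem map_surjective_of (h : IsFiltHom φ 𝓕 𝓖)
    (hh : ∀ n, ∀ b ∈ 𝓖.F n, ∃ a ∈ 𝓕.F n, φ a - b ∈ 𝓖.F (n + 1)) :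
    Function.Surjective (AssocGr.map h) := by
  intro x
  obtain ⟨g, rfl⟩ := mkG_surjective 𝓖 x
  show mkG 𝓖 g ∈ (AssocGr.map h).range
  rw [← sum_term 𝓖 g, map_sum]
  refine sum_mem fun n _ => ?_
  obtain ⟨a, ha, hab⟩ := hh n _ (g.2 n)
  refine ⟨inDeg 𝓕 n ⟨a, ha⟩, ?_⟩
  rw [map_inDeg, mkG_term, ← sub_eq_zero, ← AddSubgroupClass.coe_sub, ← map_sub,
    Submodule.coe_eq_zero, inDeg_eq_zero_iff]
  exact hab

theorem exists_of_map_surjective (h : IsFiltHom φ 𝓕 𝓖) (hs : Function.Surjective (AssocGr.map h))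
    (n : ℕ) (b : B) (hb : b ∈ 𝓖.F n) : ∃ a ∈ 𝓕.F n, φ a - b ∈ 𝓖.F (n + 1) := by
  obtain ⟨x, hx⟩ := hs (inDeg 𝓖 n ⟨b, hb⟩)
  obtain ⟨f, rfl⟩ := mkG_surjective 𝓕 x
  refine ⟨(f : A[X]).coeff n, f.2 n, ?_⟩
  rw [map_mkG, coe_inDeg, ← sub_eq_zero, ← map_sub, mkG_eq_zero_iff, mem_succIdeal_iff] at hx
  have := hx n
  rwa [AddSubgroupClass.coe_sub, coeff_sub, coe_reesMap, Polynomial.coeff_map, coe_coe_monom,
    coeff_monomial, if_pos rfl] at this

end Rings

theorem pow_smul_top_eq {A : Type u} [CommRing A] (I : Ideal A) (n : ℕ) :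
    (I ^ n • ⊤ : Ideal A) = I ^ n := by
  rw [smul_eq_mul, Ideal.mul_top]

theorem exists_limit {A : Type u} [CommRing A] (I : Ideal A) [IsPrecomplete I A] (s : ℕ → A)
    (hs : ∀ n, s (n + 1) - s n ∈ I ^ n) : ∃ L : A, ∀ n, s n - L ∈ I ^ n := by
  have hc : ∀ {m n}, m ≤ n → s m ≡ s n [SMOD (I ^ m • ⊤ : Submodule A A)] := by
    intro m n hmn
    rw [SModEq.sub_mem, pow_smul_top_eq]
    induction n, hmn using Nat.le_induction with
    | base => simp
    | succ k hk ih =>
      have h2 : s (k + 1) - s k ∈ I ^ m := Ideal.pow_le_pow_right hk (hs k)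
      have h3 := Ideal.sub_mem _ ih h2
      have e : s m - s k - (s (k + 1) - s k) = s m - s (k + 1) := by ring
      rwa [e] at h3
  obtain ⟨L, hL⟩ := IsPrecomplete.prec (I := I) (M := A) inferInstance hc
  refine ⟨L, fun n => ?_⟩
  have := hL n
  rwa [SModEq.sub_mem, pow_smul_top_eq] at this

section Modules

variable {A : Type u} [CommRing A] {I : Ideal A} {M : Type u} [AddCommGroup M] [Module A M]
  (F : I.Filtration M)

/-- Successive approximation inside a submodule. -/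
theorem le_span_of_approx [IsPrecomplete I A] (h0 : F.N 0 = ⊤) (hsep : ⨅ n, F.N n = ⊥)
    (S : Submodule A M) {ι : Type*} [Fintype ι] (d : ι → ℕ) (x : ι → M)
    (hx : ∀ i, x i ∈ F.N (d i)) (hxS : ∀ i, x i ∈ S)
    (happ : ∀ n, ∀ y ∈ S, y ∈ F.N n → ∃ a : ι → A, (∀ i, a i ∈ I ^ (n - d i)) ∧
      y - ∑ i, a i • x i ∈ F.N (n + 1)) :
    S ≤ Submodule.span A (Set.range x) := by
  intro y hy
  have step : ∀ n (z : {z : M // z ∈ S ∧ z ∈ F.N n}), ∃ a : ι → A,
      (∀ i, a i ∈ I ^ (n - d i)) ∧ (z : M) - ∑ i, a i • x i ∈ S ∧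
      (z : M) - ∑ i, a i • x i ∈ F.N (n + 1) := by
    intro n z
    obtain ⟨a, ha, ha'⟩ := happ n z.1 z.2.1 z.2.2
    exact ⟨a, ha, S.sub_mem z.2.1 (S.sum_mem fun i _ => S.smul_mem _ (hxS i)), ha'⟩
  choose a ha haS haN using step
  let z : (n : ℕ) → {z : M // z ∈ S ∧ z ∈ F.N n} := fun n =>
    Nat.rec ⟨y, hy, by rw [h0]; trivial⟩
      (fun n z => ⟨(z : M) - ∑ i, a n z i • x i, haS n z, haN n z⟩) n
  have hz : ∀ n, y - ∑ i, (∑ j ∈ Finset.range n, a j (z j) i) • x i = (z n).1 := by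
    intro n
    induction n with
    | zero => simp [z]
    | succ n ih =>
      simp only [Finset.sum_range_succ, add_smul, Finset.sum_add_distrib, ← sub_sub, ih]
      rfl
  have hl : ∀ i, ∃ L : A, ∀ m, (∑ j ∈ Finset.range (m + d i), a j (z j) i) - L ∈ I ^ m := by
    intro i
    refine exists_limit I _ fun m => ?_
    rw [show m + 1 + d i = (m + d i) + 1 by omega, Finset.sum_range_succ, add_sub_cancel_left]
    have := ha (m + d i) (z (m + d i)) i
    rwa [Nat.add_sub_cancel] at this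
  choose L hL using hl
  have : y - ∑ i, L i • x i ∈ ⨅ n, F.N n := by
    rw [Submodule.mem_iInf]
    intro n
    have e : y - ∑ i, L i • x i = (z n).1 +
        ∑ i, ((∑ j ∈ Finset.range n, a j (z j) i) - L i) • x i := by
      rw [← hz n]
      simp only [sub_smul, Finset.sum_sub_distrib]
      abel
    rw [e]
    refine add_mem (z n).2.2 (sum_mem fun i _ => ?_)
    by_cases hn : d i ≤ n
    · have h1 := hL i (n - d i)
      rw [Nat.sub_add_cancel hn] at h1
      have h2 := F.pow_smul_le (n - d i) (d i) (Submodule.smul_mem_smul h1 (hx i))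
      rwa [Nat.sub_add_cancel hn] at h2
    · exact Submodule.smul_mem _ _ (F.antitone (by omega) (hx i))
  rw [hsep, Submodule.mem_bot, sub_eq_zero] at this
  rw [this]
  exact sum_mem fun i _ => Submodule.smul_mem _ _ (Submodule.subset_span ⟨i, rfl⟩)

theorem coeff_smul_monomM (f : ↥(FiltBl.IdealFiltration.adic I).rees) (d n : ℕ) (x : F.N d) :
    ReesM.coeff F (f • monomM F d x) n =
      if d ≤ n then (f : A[X]).coeff (n - d) • (x : M) else 0 := by
  rw [ReesM.coeff_smul]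
  simp only [ReesM.coeff_monomM, smul_ite, smul_zero]
  split_ifs with hd
  · rw [Finset.sum_eq_single (n - d, d)]
    · rw [if_pos rfl]
    · rintro ⟨i, j⟩ hij hne
      rw [Finset.mem_antidiagonal] at hij
      rw [if_neg]
      rintro rfl
      exact hne (by simp only [Prod.mk.injEq, and_true]; omega)
    · intro h
      exact (h (Finset.mem_antidiagonal.mpr (by omega))).elim
  · refine Finset.sum_eq_zero fun p hp => ?_
    rw [Finset.mem_antidiagonal] at hp
    rw [if_neg]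
    rintro rfl
    omega

theorem approx_of_mem_span {ι : Type*} [Fintype ι] (d : ι → ℕ) (x : (i : ι) → ↥(F.N (d i)))
    (n : ℕ) (y : ↥(F.N n))
    (hy : (inDegM F n y : GrMod F) ∈ Submodule.span (GrRing (FiltBl.IdealFiltration.adic I))
      (Set.range fun i => (inDegM F (d i) (x i) : GrMod F))) :
    ∃ a : ι → A, (∀ i, a i ∈ I ^ (n - d i)) ∧ (y : M) - ∑ i, a i • (x i : M) ∈ F.N (n + 1) := by
  rw [Submodule.mem_span_range_iff_exists_fun] at hy
  obtain ⟨g, hg⟩ := hy
  choose f hf using fun i => mkG_surjective (FiltBl.IdealFiltration.adic I) (g i)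
  have e : mkGM F (∑ i, f i • monomM F (d i) (x i)) = mkGM F (monomM F n y) := by
    rw [map_sum, ← coe_inDegM, ← hg]
    refine Finset.sum_congr rfl fun i _ => ?_
    rw [coe_inDegM, ← hf i, mkG_smul_mkGM]
  rw [eq_comm, ← sub_eq_zero, ← map_sub, mkGM_eq_zero_iff, mem_succMod_iff] at e
  have e' := e n
  rw [← ReesM.coeffHom_apply, map_sub, map_sum] at e'
  simp only [ReesM.coeffHom_apply, coeff_smul_monomM, ReesM.coeff_monomM, if_pos rfl] at e'
  refine ⟨fun i => if d i ≤ n then (f i : A[X]).coeff (n - d i) else 0, fun i => ?_, ?_⟩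
  · dsimp only
    split_ifs
    · exact (f i).2 (n - d i)
    · exact zero_mem _
  · simpa only [ite_smul, zero_smul, ↓reduceIte] using e'

theorem exists_finset_homog (s : Finset (GrMod F)) :
    ∃ t : Finset (Σ n, ↥(F.N n)), ∀ x ∈ s,
      x ∈ Submodule.span (GrRing (FiltBl.IdealFiltration.adic I))
        (Set.range fun i : t => (inDegM F i.1.1 i.1.2 : GrMod F)) := by
  classical
  choose y hy using fun x => mkGM_surjective F x
  refine ⟨s.biUnion fun x => ((((toReesM F).symm (y x) : PolynomialModule A M).coeff.support).image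
    fun n => ⟨n, ⟨ReesM.coeff F (y x) n, ReesM.coeff_mem F (y x) n⟩⟩), fun x hx => ?_⟩
  rw [← hy x, ← sum_termM F (y x), map_sum]
  refine sum_mem fun n hn => Submodule.subset_span ⟨⟨⟨n, ⟨_, ReesM.coeff_mem F (y x) n⟩⟩, ?_⟩, rfl⟩
  exact Finset.mem_biUnion.mpr ⟨x, hx, Finset.mem_image.mpr ⟨n, hn, rfl⟩⟩

theorem exists_homog_gen {P : Submodule (GrRing (FiltBl.IdealFiltration.adic I)) (GrMod F)}
    (hP : P.FG) : ∃ t : Finset (Σ n, ↥(F.N n)), P ≤ Submodule.span _
      (Set.range fun i : t => (inDegM F i.1.1 i.1.2 : GrMod F)) := by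
  obtain ⟨s, rfl⟩ := hP
  obtain ⟨t, ht⟩ := exists_finset_homog F s
  exact ⟨t, Submodule.span_le.mpr fun x hx => ht x hx⟩

/-- The filtration induced on a submodule. -/
def restrict (N' : Submodule A M) : I.Filtration N' where
  N n := (F.N n).comap N'.subtype
  mono i := Submodule.comap_mono (F.mono i)
  smul_le i := (Submodule.smul_le).mpr fun a ha x hx =>
    F.smul_le i (Submodule.smul_mem_smul ha hx)

/-- The inclusion of graded submodules, as a set of homogeneous classes. -/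
def subClasses (N' : Submodule A M) :
    Submodule (GrRing (FiltBl.IdealFiltration.adic I)) (GrMod F) :=
  Submodule.span _ {z | ∃ n, ∃ y : F.N n, (y : M) ∈ N' ∧ (inDegM F n y : GrMod F) = z}

theorem inDegM_mem_subClasses {N' : Submodule A M} {n : ℕ} (y : F.N n) (hy : (y : M) ∈ N') :
    (inDegM F n y : GrMod F) ∈ subClasses F N' :=
  Submodule.subset_span ⟨n, y, hy, rfl⟩

theorem exists_finset_sub (N' : Submodule A M) (hP : (subClasses F N').FG) :
    ∃ t : Finset (Σ n, ↥(F.N n)), (∀ i ∈ t, (i.2 : M) ∈ N') ∧ subClasses F N' ≤ Submodule.span _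
      (Set.range fun i : t => (inDegM F i.1.1 i.1.2 : GrMod F)) := by
  classical
  obtain ⟨T, hT, hTfin⟩ := (Submodule.fg_span_iff_fg_span_finset_subset _).mp hP
  have hc : ∀ z : T, ∃ i : Σ n, ↥(F.N n), (i.2 : M) ∈ N' ∧ (inDegM F i.1 i.2 : GrMod F) = z := by
    intro z
    obtain ⟨n, y, h1, h2⟩ := hT z.2
    exact ⟨⟨n, y⟩, h1, h2⟩
  choose c hc1 hc2 using hc
  refine ⟨Finset.univ.image c, ?_, ?_⟩
  · intro i hi
    obtain ⟨z, -, rfl⟩ := Finset.mem_image.mp hi
    exact hc1 z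
  · rw [subClasses, hTfin, Submodule.span_le]
    intro z hz
    refine Submodule.subset_span ⟨⟨c ⟨z, hz⟩, Finset.mem_image.mpr ⟨_, Finset.mem_univ _, rfl⟩⟩, ?_⟩
    exact hc2 ⟨z, hz⟩

end Modules

end Groth.Agent.AdicGr29
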